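import Cfsg.Agent.GW.Eight.Linear.Evaluate.Data

/-!
# Gorenstein–Walter, `|S| ≥ 8`, linear characters: evaluation, five supporters

Both configurations are impossible.
-/

set_option autoImplicit false
set_option linter.style.haveILetI false
set_option linter.unusedSectionVars false
set_option linter.unusedVariables false
set_option maxHeartbeats 1000000

namespace CfsgLib.GW.Eight.Ctx

open Cfsg Finset CfsgLib.DihPrincipal CfsgLib.GW CfsgLib.Block CfsgLib.Block.Chr CfsgLib.Char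
open CfsgLib.Cyclic (unitVec)
open scoped ComplexConjugate Classical

universe u

variable {G : Type u} [Group G] [Fintype G] [Fact (Nat.Prime 2)] [Fintype (IrrCharacter G)]
  {C : Ctx G} {lam : G → ℂ}

/-- **The first configuration with five supporters.** -/
theorem Twist.eval_exA (T : Twist C lam) (T₂ : Twist C.flip lam)
    (hT₂ : ∀ x ∈ C.U, T₂.nu x = lam x ∧ T₂.nu' x = lam x) (E₀ : C.Eval lam)
    (g : LinVec.ExA dg E₀.w E₀.u) : False := by
  revert g
  obtain ⟨h, K, a, b, x, δ, w, u, vz, hvzdef, hh, hh2, hheven, hKo, hao, hbo, hab1, hab2, P, hprin, hnine, hn_of, hS, hK0, hVz, hV0, hVs, hP2, hdpos, hone, hsigned, hmain, hcong, hspan, hunit, hcardι, hsgn, -⟩ := E₀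
  dsimp only
  intro g
  let i₀ : Fin (h - 1) := ⟨0, by omega⟩
  obtain ⟨hap, hbq, he2⟩ := g.sign
  have hh4 : h = 4 := by have := g.card; rw [hcardι] at this; omega
  rcases T.mode with hf | ⟨hn, -⟩
  swap
  · rw [hh, hn] at hh4; norm_num at hh4
  have hvp : vz g.p = -g.a ∧ vz g.q = -2 * g.b := by
    have e1 : ∀ i, w i g.p = g.a ∧ w i g.q = g.b := fun i => by
      obtain ⟨a1, a2⟩ := g.ψ_ne i
      refine ⟨?_, ?_⟩ <;> rw [g.hw] <;> simp [hunit, g.ne, g.ne.symm, a1.symm, a2.symm]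
    have e2 : u g.p = g.a ∧ u g.q = 0 := by
      refine ⟨?_, ?_⟩ <;> rw [g.hu] <;>
        simp [hunit, g.ne, g.ne.symm, (fun i => ((g.ψ_ne i).1).symm), (fun i => ((g.ψ_ne i).2).symm)]
    simp only [hvzdef, fun i => (e1 i).1, fun i => (e1 i).2, ← sum_mul, hsgn, e2.1, e2.2]
    omega
  have hvψ : ∀ j, vz (g.ψ j) = g.e + 2 * (-1) ^ ((j : ℕ) + 1) * g.e := fun j => by
    obtain ⟨a1, a2⟩ := g.ψ_ne j
    simp only [hvzdef, g.hu, g.hw, hunit, if_neg a1, if_neg a2, mul_zero, add_zero, zero_add,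
      g.ψ_inj.eq_iff, mul_ite, mul_one, sum_ite_eq, mem_univ, if_true]
    ring
  have hZ : ∀ χ, vz χ ≠ 0 → (χ : G → ℂ) C.z = (vz χ : ℂ) := fun χ h' => by
    rw [T.val_fixed T₂ hT₂ hf χ (hV0 χ h'), hVz]
  set E : ℤ := g.e * dg (g.ψ i₀) with hE
  have hEi : ∀ i, g.e * dg (g.ψ i) = E := fun i => by
    have := g.degp i; have := g.degp i₀; omega
  have he0 : g.e ≠ 0 := by rintro e; rw [e] at he2; simp at he2
  have hE0 : E ≠ 0 := mul_ne_zero he0 (hdpos _).ne'
  have hcE : (E : ℂ) ≠ 0 := Int.cast_ne_zero.2 hE0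
  have hv0 : vz g.p ≠ 0 ∧ vz g.q ≠ 0 ∧ vz (g.ψ i₀) ≠ 0 := by
    rw [hvp.1, hvp.2, hvψ i₀]
    refine ⟨?_, ?_, ?_⟩ <;> rcases int_sign hap with e | e <;> rcases int_sign hbq with e' | e' <;>
      rcases int_sign he2 with e'' | e'' <;> simp [e, e', e'', i₀]
  have hc := hmain (8 / (3 * (E : ℂ))) fun i hi => by
    have hψv : vz (g.ψ i) = -g.e := by rw [hvψ, pow_succ, hi.neg_one_pow]; ring
    have hψv0 : vz (g.ψ i) ≠ 0 := by rw [hψv]; omega
    rw [show ∑ χ, C.fz χ * (w i χ : ℂ) =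
        (g.a : ℂ) * C.fz g.p + (g.b : ℂ) * C.fz g.q + (g.e : ℂ) * C.fz (g.ψ i) by
      simp only [g.hw]
      push_cast
      simp only [mul_add, sum_add_distrib, mul_left_comm (C.fz _), ← mul_sum, sum_mul_unitVec]]
    have tp : (g.a : ℂ) * C.fz g.p = -(1 / (3 * (E : ℂ))) := by
      rw [show (3 * (E : ℂ)) = -((g.a * dg g.p : ℤ) : ℂ) by
        rw [g.degp i₀, ← hE]; push_cast; ring]
      simp only [fz, hZ _ hv0.1, hvp.1]
      rcases int_sign hap with e | e <;> rw [e] <;> push_cast <;> ring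
    have tq : (g.b : ℂ) * C.fz g.q = 2 / (E : ℂ) := by
      rw [show (2 : ℂ) / (E : ℂ) = 4 / ((g.b * dg g.q : ℤ) : ℂ) by
        rw [g.degq i₀, ← hE]; push_cast; field_simp; norm_num]
      simp only [fz, hZ _ hv0.2.1, hvp.2]
      rcases int_sign hbq with e | e <;> rw [e] <;> push_cast <;> ring
    have tψ : (g.e : ℂ) * C.fz (g.ψ i) = 1 / (E : ℂ) := by
      rw [← hEi i]
      simp only [fz, hZ _ hψv0, hψv]
      rcases int_sign he2 with e | e <;> rw [e] <;> push_cast <;> ring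
    rw [tp, tq, tψ]; field_simp; ring
  have heq : (K : ℤ) * 8 = 2 * (h : ℤ) ^ 2 * (((a : ℤ) + b) ^ 2) * (3 * -E) := by
    field_simp at hc
    have : ((K : ℂ)) * 8 = 2 * (h : ℂ) ^ 2 * (((a : ℂ) + b) ^ 2) * (3 * -(E : ℂ)) := by linear_combination hc
    exact_mod_cast this
  have hEneg : E < 0 := by
    by_contra hcon
    have h1 : 0 < 2 * (h : ℤ) ^ 2 * (((a : ℤ) + b) ^ 2) := hS
    nlinarith [hKo.pos, mul_nonneg h1.le (not_lt.1 hcon)]
  have hE4 : E % 4 = 3 := by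
    have := hcong _ (-g.e) (by
      rw [hZ _ hv0.2.2, hvψ, show (i₀ : ℕ) = 0 from rfl]; push_cast; ring)
    simp only [hE]
    rcases int_sign he2 with e | e <;> rw [e] at this ⊢ <;> omega
  exact LinArith.fixed_exA P hE4 (fun e => (hsigned _ hv0.2.2 g.e he2).2 e) hEneg
    (LinArith.eliminate hK0 heq hprin)

/-- **The second configuration with five supporters.** -/
theorem Twist.eval_exB (T : Twist C lam) (T₂ : Twist C.flip lam)
    (hT₂ : ∀ x ∈ C.U, T₂.nu x = lam x ∧ T₂.nu' x = lam x) (E₀ : C.Eval lam)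
    (g : LinVec.ExB dg E₀.w E₀.u) : False := by
  revert g
  obtain ⟨h, K, a, b, x, δ, w, u, vz, hvzdef, hh, hh2, hheven, hKo, hao, hbo, hab1, hab2, P, hprin, hnine, hn_of, hS, hK0, hVz, hV0, hVs, hP2, hdpos, hone, hsigned, hmain, hcong, hspan, hunit, hcardι, hsgn, -⟩ := E₀
  dsimp only
  intro g
  let i₀ : Fin (h - 1) := ⟨0, by omega⟩
  obtain ⟨hap, hbq, he2⟩ := g.sign
  have hh4 : h = 4 := by have := g.card; rw [hcardι] at this; omega
  rcases T.mode with hf | ⟨hn, -⟩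
  swap
  · rw [hh, hn] at hh4; norm_num at hh4
  have hvp : vz g.p = -2 * g.a := by
    have e1 : ∀ i, w i g.p = g.a := fun i => by
      rw [g.hw]; simp [hunit, (fun j => ((g.ψ_ne j).1).symm)]
    have e2 : u g.p = 0 := by
      rw [g.hu]; simp [hunit, g.ne, (fun j => ((g.ψ_ne j).1).symm)]
    simp only [hvzdef, e1, ← sum_mul, hsgn, e2]
    omega
  have hvψ : ∀ j, vz (g.ψ j) = g.e + 2 * (-1) ^ ((j : ℕ) + 1) * g.e := fun j => by
    obtain ⟨a1, a2⟩ := g.ψ_ne j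
    simp only [hvzdef, g.hu, g.hw, hunit, if_neg a1, if_neg a2, mul_zero, zero_sub, g.ψ_inj.eq_iff,
      sum_ite_eq, mem_univ, if_true, mul_neg, mul_sub, mul_one, mul_ite, sum_sub_distrib, sum_neg_distrib,
      ← sum_mul, hsgn, sum_const_zero, add_zero, zero_mul]
    try ring
  have hZ : ∀ χ, vz χ ≠ 0 → (χ : G → ℂ) C.z = (vz χ : ℂ) := fun χ h' => by
    rw [T.val_fixed T₂ hT₂ hf χ (hV0 χ h'), hVz]
  set E : ℤ := g.e * dg (g.ψ i₀) with hE
  have hEi : ∀ i, g.e * dg (g.ψ i) = E := fun i => by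
    have := g.degp i; have := g.degp i₀; omega
  have he0 : g.e ≠ 0 := by rintro e; rw [e] at he2; simp at he2
  have hE0 : E ≠ 0 := mul_ne_zero he0 (hdpos _).ne'
  have hcE : (E : ℂ) ≠ 0 := Int.cast_ne_zero.2 hE0
  have hψ0 : ∀ j, vz (g.ψ j) ≠ 0 := fun j => by
    rw [hvψ]
    rcases neg_one_pow_eq_or ℤ ((j : ℕ) + 1) with e | e <;> rw [e] <;> omega
  have hp0 : vz g.p ≠ 0 := by
    rw [hvp]; rcases int_sign hap with e | e <;> rw [e] <;> norm_num
  have tψ : ∀ j, (g.e : ℂ) * C.fz (g.ψ j) = (5 + 4 * (-1) ^ ((j : ℕ) + 1)) / (E : ℂ) := fun j => by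
    rw [← hEi j]
    simp only [fz, hZ _ (hψ0 j), hvψ]
    rcases Nat.even_or_odd ((j : ℕ) + 1) with he | he <;> simp only [he.neg_one_pow] <;>
      rcases int_sign he2 with e'' | e'' <;> rw [e''] <;> push_cast <;> ring
  have hsum3 : ∑ j : Fin (h - 1), (g.e : ℂ) * C.fz (g.ψ j) = 11 / (E : ℂ) := by
    rw [sum_congr rfl fun j _ => tψ j, ← sum_div, sum_add_distrib, ← mul_sum, sum_const, card_univ,
      hcardι]
    have : ((∑ i : Fin (h - 1), (-1 : ℤ) ^ ((i : ℕ) + 1) : ℤ) : ℂ) = -1 := by rw [hsgn]; simp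
    push_cast at this
    rw [this, hh4]; norm_num
  have hc := hmain (-(8 / (E : ℂ))) fun i hi => by
    rw [show ∑ χ, C.fz χ * (w i χ : ℂ) = (g.a : ℂ) * C.fz g.p -
        (∑ j, (g.e : ℂ) * C.fz (g.ψ j) - (g.e : ℂ) * C.fz (g.ψ i)) by
      simp only [g.hw]
      push_cast
      simp only [mul_sub, mul_sum, sum_sub_distrib, mul_left_comm (C.fz _)]
      rw [sum_comm]
      simp only [← mul_sum, sum_mul_unitVec]]
    have tp : (g.a : ℂ) * C.fz g.p = 2 / (E : ℂ) := by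
      rw [show (2 : ℂ) / (E : ℂ) = 4 / ((g.a * dg g.p : ℤ) : ℂ) by
        rw [g.degp i₀, ← hE]; push_cast; field_simp; norm_num]
      simp only [fz, hZ _ hp0, hvp]
      rcases int_sign hap with e | e <;> rw [e] <;> push_cast <;> ring
    rw [hsum3, tψ i, tp, pow_succ, hi.neg_one_pow]; ring
  have heq : (K : ℤ) * 8 = 2 * (h : ℤ) ^ 2 * (((a : ℤ) + b) ^ 2) * E := by
    field_simp at hc
    have : ((K : ℂ)) * 8 = 2 * (h : ℂ) ^ 2 * (((a : ℂ) + b) ^ 2) * (E : ℂ) := by linear_combination -hc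
    exact_mod_cast this
  have hEpos : 0 < E := by
    by_contra hcon
    have h1 : 0 < 2 * (h : ℤ) ^ 2 * (((a : ℤ) + b) ^ 2) := hS
    nlinarith [hKo.pos, mul_nonpos_of_nonneg_of_nonpos h1.le (not_lt.1 hcon)]
  have hE4 : E % 4 = 3 := by
    have := hcong _ (-g.e) (by
      rw [hZ _ (hψ0 i₀), hvψ, show (i₀ : ℕ) = 0 from rfl]; push_cast; ring)
    simp only [hE]
    rcases int_sign he2 with e | e <;> rw [e] at this ⊢ <;> omega
  exact LinArith.fixed_exB P hE4 hEpos (LinArith.eliminate hK0 heq hprin)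

end CfsgLib.GW.Eight.Ctx
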