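import Cfsg.Agent.GW.Eight.Linear.Evaluate.Data

/-!
# Gorenstein–Walter, `|S| ≥ 8`, linear characters: evaluation, one side moved

A supporting character, or the principal block member, has degree below twelve.
-/

set_option autoImplicit false
set_option linter.style.haveILetI false
set_option linter.unusedSectionVars false
set_option linter.unusedVariables false
set_option maxHeartbeats 2000000

namespace CfsgLib.GW.Eight.Ctx

open Cfsg Finset CfsgLib.DihPrincipal CfsgLib.GW CfsgLib.Block CfsgLib.Block.Chr CfsgLib.Char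
open CfsgLib.Cyclic (unitVec)
open scoped ComplexConjugate Classical

universe u

variable {G : Type u} [Group G] [Fintype G] [Fact (Nat.Prime 2)] [Fintype (IrrCharacter G)]
  {C : Ctx G} {lam : G → ℂ}

/-- The first count, integrally. -/
theorem moved_arith {K A B : ℤ} {a b : ℕ} (hK : Odd K) (hK0 : 0 < K) (hao : Odd a) (hbo : Odd b)
    (hab1 : a < 4 * b) (hab2 : b < 4 * a) (hne : A * B * (A + B) ≠ 0) (h2 : (2 : ℤ) ∣ A + B)
    (heq : K * (A + 3 * B) ^ 2 = 8 * ((a : ℤ) + b) ^ 2 * (A * B * (A + B)))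
    (hG : (4 * (a : ℤ) * b) * (A * B) = K * (B - A)) :
    0 < A * B * (A + B) ∧ (8 : ℤ) ∣ A + 3 * B ∧
      2 * (A + 3 * B) ^ 2 < 25 * ((B - A) * (A + B)) := by
  have hD : 0 < A * B * (A + B) := by
    rcases lt_trichotomy (A * B * (A + B)) 0 with hlt | h0 | hgt
    · have h1 : (0 : ℤ) < ((a : ℤ) + b) ^ 2 := by
        have : (0 : ℤ) < (a : ℤ) + b := by have := hao.pos; omega
        positivity
      nlinarith [mul_nonneg hK0.le (sq_nonneg (A + 3 * B)), mul_neg_of_pos_of_neg h1 hlt]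
    · exact absurd h0 hne
    · exact hgt
  refine ⟨hD, ?_, ?_⟩
  · obtain ⟨c, hc2⟩ : (2 : ℤ) ∣ (a : ℤ) + b := by
      obtain ⟨i, rfl⟩ := hao; obtain ⟨j, rfl⟩ := hbo
      exact ⟨i + j + 1, by push_cast; ring⟩
    obtain ⟨d, hd2⟩ := h2
    refine LinArith.sq_dvd_of_odd (K := K) hK (k := 3) (by norm_num) ⟨c ^ 2 * A * B * d, ?_⟩
    rw [heq, hc2, hd2]; ring
  · refine lt_of_mul_lt_mul_left ?_ hK0.le
    have e1 : K * (2 * (A + 3 * B) ^ 2) = 16 * (((a : ℤ) + b) ^ 2) * (A * B * (A + B)) := by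
      linear_combination 2 * heq
    have e2 : K * (25 * ((B - A) * (A + B))) = 100 * ((a : ℤ) * b) * (A * B * (A + B)) := by
      linear_combination (-25 * (A + B)) * hG
    rw [e1, e2]
    refine mul_lt_mul_of_pos_right ?_ hD
    have l1 : (0 : ℤ) < 4 * (a : ℤ) - b := by omega
    have l2 : (0 : ℤ) < 4 * (b : ℤ) - a := by omega
    nlinarith [mul_pos l1 l2]

/-- **One side moved.** -/
theorem Twist.eval_moved (T : Twist C lam) (T₂ : Twist C.flip lam)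
    (hT₂ : ∀ x ∈ C.U, T₂.nu x = lam x ∧ T₂.nu' x = lam x) (E : C.Eval lam)
    (g : LinVec.Gen dg E.w E.u) (hn : C.n = 3) (g1 : ¬ ∀ d ∈ C.D1, lam d = T.nu d)
    (g2 : ¬ ∀ d ∈ C.D1, lam d = T.nu' d) (g3 : ¬ ∀ d ∈ C.D1, T.nu d = T.nu' d)
    (hs : ∀ x ∈ C.U, T.nu' x = T.nu (C.s * x * C.s⁻¹)) : C.SmallChar := by
  revert g
  obtain ⟨h, K, a, b, x, δ, w, u, vz, hvzdef, hh, hh2, hheven, hKo, hao, hbo, hab1, hab2, P, hprin, hnine, hn_of, hS, hK0, hVz, hV0, hVs, hP2, hdpos, hone, hsigned, hmain, hcong, hspan, hunit, hcardι, hsgn, -⟩ := E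
  dsimp only
  intro g
  let i₀ : Fin (h - 1) := ⟨0, by omega⟩
  obtain ⟨hap, hbq, hf2, hg2, he2⟩ := g.sign
  obtain ⟨hpq, hpc, hpd, hqc, hqd, hcd⟩ := g.ne
  have hwp : ∀ i, w i g.p = g.a ∧ w i g.q = g.b ∧ w i g.c₀ = 0 ∧ w i g.d₀ = 0 := fun i => by
    obtain ⟨a1, a2, a3, a4⟩ := g.ψ_ne i
    refine ⟨?_, ?_, ?_, ?_⟩ <;> rw [g.hw] <;>
      simp [hunit, hpq, hpq.symm, hpc.symm, hpd.symm, hqc.symm, hqd.symm, a1.symm, a2.symm,
        a3.symm, a4.symm]
  have hup : u g.p = g.a ∧ u g.q = g.b ∧ u g.c₀ = g.f ∧ u g.d₀ = g.g := by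
    refine ⟨?_, ?_, ?_, ?_⟩ <;> rw [g.hu] <;>
      simp [hunit, hpq, hpq.symm, hpc, hpc.symm, hpd, hpd.symm, hqc, hqc.symm, hqd, hqd.symm, hcd,
        hcd.symm]
  have hvp : vz g.p = -g.a ∧ vz g.q = -g.b ∧ vz g.c₀ = g.f ∧ vz g.d₀ = g.g := by
    simp only [hvzdef, fun i => (hwp i).1, fun i => (hwp i).2.1, fun i => (hwp i).2.2.1,
      fun i => (hwp i).2.2.2, ← sum_mul, hsgn, hup.1, hup.2.1, hup.2.2.1, hup.2.2.2]
    omega
  have hvψ : ∀ j, vz (g.ψ j) = 2 * (-1) ^ ((j : ℕ) + 1) * g.e := fun j => by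
    obtain ⟨a1, a2, a3, a4⟩ := g.ψ_ne j
    simp only [hvzdef, g.hu, g.hw, hunit, if_neg a1, if_neg a2, if_neg a3, if_neg a4, mul_zero,
      add_zero, zero_add, g.ψ_inj.eq_iff, mul_ite, mul_one, sum_ite_eq, mem_univ, if_true]
    ring
  have hne0 : vz g.p ≠ 0 ∧ vz g.q ≠ 0 := by
    rw [hvp.1, hvp.2.1]
    rcases int_sign hap with e | e <;> rcases int_sign hbq with e' | e' <;> rw [e, e'] <;> norm_num
  have hψ0 : ∀ j, vz (g.ψ j) ≠ 0 := fun j => by
    rw [hvψ]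
    rcases neg_one_pow_eq_or ℤ ((j : ℕ) + 1) with e | e <;> rw [e] <;>
      rcases int_sign he2 with e' | e' <;> rw [e'] <;> norm_num
  have hFw : ∀ i, ∑ χ, C.fz χ * (w i χ : ℂ) =
      (g.a : ℂ) * C.fz g.p + (g.b : ℂ) * C.fz g.q + (g.e : ℂ) * C.fz (g.ψ i) := fun i => by
    simp only [g.hw]
    push_cast
    simp only [mul_add, sum_add_distrib, mul_left_comm (C.fz _), ← mul_sum, sum_mul_unitVec]
  set A : ℤ := -(g.a * dg g.p) with hA
  set B : ℤ := -(g.b * dg g.q) with hB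
  have hψdeg : ∀ i, g.e * dg (g.ψ i) = A + B := fun i => by
    have := g.degw i; simp only [hA, hB]; omega
  have hA0 : A ≠ 0 := by
    simp only [hA, neg_ne_zero]; exact mul_ne_zero (by rintro e; rw [e] at hap; simp at hap) (hdpos _).ne'
  have hB0 : B ≠ 0 := by
    simp only [hB, neg_ne_zero]; exact mul_ne_zero (by rintro e; rw [e] at hbq; simp at hbq) (hdpos _).ne'
  have hAB0 : A + B ≠ 0 := by
    rw [← hψdeg i₀]; exact mul_ne_zero (by rintro e; rw [e] at he2; simp at he2) (hdpos _).ne'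
  have hcA : (A : ℂ) ≠ 0 := Int.cast_ne_zero.2 hA0
  have hcB : (B : ℂ) ≠ 0 := Int.cast_ne_zero.2 hB0
  have hcAB : (A : ℂ) + B ≠ 0 := by exact_mod_cast hAB0
  have hinvp : (g.a : ℂ) / (dg g.p : ℂ) = -(1 / (A : ℂ)) := by
    rw [signed_inv hap, hA]; push_cast; rw [div_neg, neg_neg]
  have hinvq : (g.b : ℂ) / (dg g.q : ℂ) = -(1 / (B : ℂ)) := by
    rw [signed_inv hbq, hB]; push_cast; rw [div_neg, neg_neg]
  have hinvψ : ∀ i, (g.e : ℂ) / (dg (g.ψ i) : ℂ) = 1 / ((A : ℂ) + B) := fun i => by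
    rw [signed_inv he2]; congr 1; exact_mod_cast hψdeg i
  have hh2' : h = 2 := by rw [hh, hn]; rfl
  haveI : Subsingleton (Fin (h - 1)) := ⟨fun i j => Fin.ext (by omega)⟩
  have hi0 : ∀ i : Fin (h - 1), (i : ℕ) = 0 := fun i => by omega
  replace hVs := hVs hn
  obtain ⟨W, hWW, hWd, hWV, hWval⟩ := T.exists_wvec T₂ hT₂ hn g1 g2 g3 hs
  have hWu : ∑ χ, W χ * u χ = 0 := by
    have := hWV 1 one_pos (by norm_num)
    simp only [hVs, map_intCast] at this
    have h' : ∑ χ, W χ * -u χ = 0 := by exact_mod_cast this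
    simpa [sum_neg_distrib] using h'
  have hWw : ∑ χ, W χ * w i₀ χ = 0 := by
    have := hWV 2 two_pos (by norm_num)
    rw [show C.s ^ 2 = C.z by rw [z, ← hh, hh2']] at this
    simp only [hVz, map_intCast] at this
    have h' : ∑ χ, W χ * vz χ = 0 := by exact_mod_cast this
    simp only [hvzdef, Fintype.sum_subsingleton _ i₀, show (i₀ : ℕ) = 0 from rfl, mul_add,
      sum_add_distrib, hWu, zero_add, pow_one] at h'
    rw [sum_congr rfl fun χ _ => show W χ * (2 * (-1 * w i₀ χ)) = -2 * (W χ * w i₀ χ) by ring,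
      ← mul_sum] at h'
    linarith
  -- the support of the coefficient
  have hpar : ∀ χ, vz χ ≠ 0 → (χ : G → ℂ) C.z = ((vz χ + 2 * W χ : ℤ) : ℂ) ∧
      (2 : ℤ) ∣ W χ - vz χ := fun χ h' => by
    obtain ⟨e1, e2⟩ := hWval χ (hV0 χ h')
    refine ⟨?_, e2 _ (hVz χ)⟩
    rw [e1, hVz]; push_cast; rfl
  set Q : Finset (IrrCharacter G) := {g.p, g.q, g.c₀, g.d₀} with hQ
  have hQsum : ∀ f : IrrCharacter G → ℤ,
      ∑ χ ∈ Q, f χ = f g.p + f g.q + f g.c₀ + f g.d₀ := fun f => by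
    rw [hQ, sum_insert (by simp [hpq, hpc, hpd]), sum_insert (by simp [hqc, hqd]), sum_pair hcd]
    ring
  have hodd : ∀ χ ∈ Q, vz χ = 1 ∨ vz χ = -1 := fun χ hχ => by
    simp only [hQ, mem_insert, mem_singleton] at hχ
    rcases hχ with rfl | rfl | rfl | rfl
    · rw [hvp.1]; rcases int_sign hap with e | e <;> rw [e] <;> norm_num
    · rw [hvp.2.1]; rcases int_sign hbq with e | e <;> rw [e] <;> norm_num
    · rw [hvp.2.2.1]; exact int_sign hf2
    · rw [hvp.2.2.2]; exact int_sign hg2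
  have hW1 : ∀ χ ∈ Q, 1 ≤ W χ * W χ := fun χ hχ => by
    have hp := (hpar χ (by rcases hodd χ hχ with e | e <;> rw [e] <;> norm_num)).2
    have hW0 : W χ ≠ 0 := fun e => by rw [e] at hp; rcases hodd χ hχ with e' | e' <;> omega
    exact Int.add_one_le_of_lt (mul_self_pos.2 hW0)
  have hsplit : ∑ χ ∈ Q, W χ * W χ + ∑ χ ∈ univ \ Q, W χ * W χ = 4 := by
    rw [add_comm, sum_sdiff (subset_univ Q), hWW]
  have hrest : ∑ χ ∈ univ \ Q, W χ * W χ = 0 ∧ ∀ χ ∈ Q, W χ = 1 ∨ W χ = -1 := by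
    have h1 := hW1 g.p (by simp [hQ])
    have h2 := hW1 g.q (by simp [hQ])
    have h3 := hW1 g.c₀ (by simp [hQ])
    have h4 := hW1 g.d₀ (by simp [hQ])
    have h5 : 0 ≤ ∑ χ ∈ univ \ Q, W χ * W χ := sum_nonneg fun _ _ => mul_self_nonneg _
    rw [hQsum] at hsplit
    refine ⟨by omega, fun χ hχ => int_sign ?_⟩
    simp only [hQ, mem_insert, mem_singleton] at hχ
    rcases hχ with rfl | rfl | rfl | rfl <;> omega
  have hW0 : ∀ χ, χ ∉ Q → W χ = 0 := fun χ hχ =>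
    mul_self_eq_zero.1 ((sum_eq_zero_iff_of_nonneg fun _ _ => mul_self_nonneg _).1 hrest.1 χ
      (mem_sdiff.2 ⟨mem_univ χ, hχ⟩))
  have hψQ : g.ψ i₀ ∉ Q := by
    obtain ⟨a1, a2, a3, a4⟩ := g.ψ_ne i₀
    simp [hQ, a1, a2, a3, a4]
  have hWdeg : dg g.p * W g.p + dg g.q * W g.q + dg g.c₀ * W g.c₀ + dg g.d₀ * W g.d₀ = 0 := by
    rw [← hQsum (fun χ => dg χ * W χ), ← hWd]
    exact sum_subset (subset_univ Q) fun χ _ hχ => by rw [hW0 χ hχ, mul_zero]
  have hsgnpq : g.a * W g.p + g.b * W g.q = 0 := by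
    rw [← hWw]
    simp only [g.hw, mul_add, sum_add_distrib, DihPrincipal.sum_mul_smul_unit, hW0 _ hψQ, mul_zero,
      add_zero]
  have hsgncd : g.f * W g.c₀ + g.g * W g.d₀ = 0 := by
    have : g.a * W g.p + g.b * W g.q + g.f * W g.c₀ + g.g * W g.d₀ = 0 := by
      rw [← hWu]
      simp only [g.hu, mul_add, sum_add_distrib, DihPrincipal.sum_mul_smul_unit]
    linarith
  -- name the centre with value of square nine
  obtain ⟨p, q, α, β, hα, hβ, hαp, hβq, hvp', hvq', hFw', hFu', hdw', hdu', hWd'⟩ :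
      ∃ (p q : IrrCharacter G) (α β : ℤ), α * α = 1 ∧ β * β = 1 ∧ α * W p = -1 ∧ β * W q = 1 ∧
        vz p = -α ∧ vz q = -β ∧
        ∑ χ, C.fz χ * (w i₀ χ : ℂ) = (α : ℂ) * C.fz p + (β : ℂ) * C.fz q + (g.e : ℂ) * C.fz (g.ψ i₀) ∧
        ∑ χ, C.fz χ * (u χ : ℂ) =
          (α : ℂ) * C.fz p + (β : ℂ) * C.fz q + (g.f : ℂ) * C.fz g.c₀ + (g.g : ℂ) * C.fz g.d₀ ∧
        α * dg p + β * dg q + g.e * dg (g.ψ i₀) = 0 ∧
        α * dg p + β * dg q + g.f * dg g.c₀ + g.g * dg g.d₀ = 0 ∧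
        dg p * W p + dg q * W q + dg g.c₀ * W g.c₀ + dg g.d₀ * W g.d₀ = 0 := by
    have hFu : ∑ χ, C.fz χ * (u χ : ℂ) =
        (g.a : ℂ) * C.fz g.p + (g.b : ℂ) * C.fz g.q + (g.f : ℂ) * C.fz g.c₀ + (g.g : ℂ) * C.fz g.d₀ := by
      simp only [g.hu]
      push_cast
      simp only [mul_add, sum_add_distrib, mul_left_comm (C.fz _), ← mul_sum, sum_mul_unitVec]
    have hWp := hrest.2 g.p (by simp [hQ])
    have : g.a * W g.p = -1 ∨ g.a * W g.p = 1 := by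
      rcases int_sign hap with e | e <;> rcases hWp with e' | e' <;> rw [e, e'] <;> norm_num
    rcases this with e | e
    · exact ⟨g.p, g.q, g.a, g.b, hap, hbq, e, by omega, hvp.1, hvp.2.1, hFw i₀, hFu,
        g.degw i₀, g.degu, hWdeg⟩
    · exact ⟨g.q, g.p, g.b, g.a, hbq, hap, by omega, e, hvp.2.1, hvp.1,
        by rw [hFw i₀]; ring, by rw [hFu]; ring, by linarith [g.degw i₀], by linarith [g.degu],
        by linarith [hWdeg]⟩
  set A' : ℤ := -(α * dg p) with hA'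
  set B' : ℤ := -(β * dg q) with hB'
  have hα0 : α ≠ 0 := by rintro e; rw [e] at hα; simp at hα
  have hβ0 : β ≠ 0 := by rintro e; rw [e] at hβ; simp at hβ
  have hA'0 : A' ≠ 0 := neg_ne_zero.2 (mul_ne_zero hα0 (hdpos _).ne')
  have hB'0 : B' ≠ 0 := neg_ne_zero.2 (mul_ne_zero hβ0 (hdpos _).ne')
  have hψd : g.e * dg (g.ψ i₀) = A' + B' := by simp only [hA', hB']; linarith
  have hAB'0 : A' + B' ≠ 0 := by
    rw [← hψd]; exact mul_ne_zero (by rintro e; rw [e] at he2; simp at he2) (hdpos _).ne'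
  have hvp0 : vz p ≠ 0 := by rw [hvp']; omega
  have hvq0 : vz q ≠ 0 := by rw [hvq']; omega
  have hWp : W p = -α := by linear_combination α * hαp - W p * hα
  have hWq : W q = β := by linear_combination β * hβq - W q * hβ
  have hZp : (p : G → ℂ) C.z = ((-3 * α : ℤ) : ℂ) := by
    rw [(hpar p hvp0).1, hvp', hWp]; push_cast; ring
  have hZq : (q : G → ℂ) C.z = ((β : ℤ) : ℂ) := by
    rw [(hpar q hvq0).1, hvq', hWq]; push_cast; ring
  have hA4 : A' % 4 = 3 ∧ B' % 4 = 3 := by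
    have h1 := hcong p (-3 * α) hZp
    have h2 := hcong q β hZq
    simp only [hA', hB']
    rcases int_sign hα with e | e <;> rcases int_sign hβ with e' | e' <;>
      rw [e] at h1 ⊢ <;> rw [e'] at h2 ⊢ <;> omega
  have hcA : (A' : ℂ) ≠ 0 := Int.cast_ne_zero.2 hA'0
  have hcB : (B' : ℂ) ≠ 0 := Int.cast_ne_zero.2 hB'0
  have hcAB : (A' : ℂ) + B' ≠ 0 := by exact_mod_cast hAB'0
  have tp : (α : ℂ) * C.fz p = -(9 / (A' : ℂ)) := by
    simp only [fz, hZp, hA']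
    rcases int_sign hα with e | e <;> rw [e] <;> push_cast <;> ring
  have tq : (β : ℂ) * C.fz q = -(1 / (B' : ℂ)) := by
    simp only [fz, hZq, hB']
    rcases int_sign hβ with e | e <;> rw [e] <;> push_cast <;> ring
  have tψ : (g.e : ℂ) * C.fz (g.ψ i₀) = 4 / ((A' : ℂ) + B') := by
    rw [show ((A' : ℂ) + B') = ((g.e * dg (g.ψ i₀) : ℤ) : ℂ) by rw [hψd]; push_cast; rfl]
    simp only [fz, (hpar _ (hψ0 i₀)).1, hvψ, hW0 _ hψQ, hi0 i₀]
    rcases int_sign he2 with e | e <;> rw [e] <;> push_cast <;> ring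
  have hc := hmain (-(9 / (A' : ℂ)) - 1 / (B' : ℂ) + 4 / ((A' : ℂ) + B')) fun i _ => by
    rw [Subsingleton.elim i i₀, hFw', tp, tq, tψ]; ring
  have heq : (K : ℤ) * (A' + 3 * B') ^ 2 = 2 * (h : ℤ) ^ 2 * (((a : ℤ) + b) ^ 2) * (A' * B' * (A' + B')) := by
    field_simp at hc
    have : ((K : ℂ)) * ((A' : ℂ) + 3 * B') ^ 2 =
        2 * (h : ℂ) ^ 2 * (((a : ℂ) + b) ^ 2) * ((A' : ℂ) * B' * ((A' : ℂ) + B')) := by
      linear_combination -hc
    exact_mod_cast this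
  -- the other count
  obtain ⟨η, hη, hWc, hWd0⟩ : ∃ η : ℤ, (η = 1 ∨ η = -1) ∧ W g.c₀ = η * g.f ∧ W g.d₀ = -η * g.g := by
    refine ⟨g.f * W g.c₀, ?_, by linear_combination (-(W g.c₀)) * hf2,
      by linear_combination g.g * hsgncd - W g.d₀ * hg2⟩
    rcases int_sign hf2 with e | e <;> rcases hrest.2 g.c₀ (by simp [hQ]) with e' | e' <;>
      rw [e, e'] <;> norm_num
  obtain ⟨hc', hd'⟩ : g.f * dg g.c₀ = (if η = 1 then B' else A') ∧
      g.g * dg g.d₀ = (if η = 1 then A' else B') := by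
    rw [hWp, hWq, hWc, hWd0] at hWd'
    rcases hη with rfl | rfl
    · simp only [if_true]; constructor <;> (simp only [hA', hB']; linarith)
    · simp only [show ¬ ((-1 : ℤ) = 1) by norm_num, if_false]
      constructor <;> (simp only [hA', hB']; linarith)
  have hvc0 : vz g.c₀ ≠ 0 := by
    rw [hvp.2.2.1]; rcases int_sign hf2 with e | e <;> rw [e] <;> norm_num
  have hvd0 : vz g.d₀ ≠ 0 := by
    rw [hvp.2.2.2]; rcases int_sign hg2 with e | e <;> rw [e] <;> norm_num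
  have tcd : (g.f : ℂ) * C.fz g.c₀ + (g.g : ℂ) * C.fz g.d₀ = 9 / (B' : ℂ) + 1 / (A' : ℂ) := by
    have tc : (g.f : ℂ) * C.fz g.c₀ = (1 + 2 * (η : ℂ)) ^ 2 / ((g.f * dg g.c₀ : ℤ) : ℂ) := by
      simp only [fz, (hpar _ hvc0).1, hvp.2.2.1, hWc]
      rcases int_sign hf2 with e | e <;> rw [e] <;> push_cast <;> ring
    have td : (g.g : ℂ) * C.fz g.d₀ = (1 - 2 * (η : ℂ)) ^ 2 / ((g.g * dg g.d₀ : ℤ) : ℂ) := by
      simp only [fz, (hpar _ hvd0).1, hvp.2.2.2, hWd0]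
      rcases int_sign hg2 with e | e <;> rw [e] <;> push_cast <;> ring
    rw [tc, td, hc', hd']
    rcases hη with rfl | rfl <;> norm_num <;> ring
  have hG : (4 * (a : ℤ) * b) * (A' * B') = (K : ℤ) * (B' - A') := by
    rw [sum_congr rfl fun (χ : IrrCharacter G) _ => show (χ : G → ℂ) C.z ^ 2 / (χ : G → ℂ) 1 *
        C.cV lam (χ : G → ℂ) C.s = -(C.fz χ * (u χ : ℂ)) by
      rw [← pow_one C.s, hVs, hone]; simp only [fz]; push_cast; ring,
      sum_neg_distrib, hFu', tp, tq, add_assoc, tcd, hh2'] at hP2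
    field_simp at hP2
    have : (4 * (a : ℂ) * b) * ((A' : ℂ) * B') = (K : ℂ) * ((B' : ℂ) - A') := by
      push_cast at hP2
      linear_combination hP2 / 8
    exact_mod_cast this
  obtain ⟨hD, h8, hineq⟩ := moved_arith (a := a) (b := b) (by exact_mod_cast hKo : Odd (K : ℤ))
    (by exact_mod_cast hKo.pos) hao hbo hab1 hab2 (mul_ne_zero (mul_ne_zero hA'0 hB'0) hAB'0)
    (by clear * - hA4; omega) (by rw [heq, hh2']; ring) hG
  have hdegp : dg p = |A'| := by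
    rw [hA', abs_neg, abs_mul, show |α| = 1 by rcases int_sign hα with e | e <;> rw [e] <;> rfl,
      one_mul, abs_of_pos (hdpos p)]
  have hdegψ : dg (g.ψ i₀) = |A' + B'| := by
    rw [← hψd, abs_mul, show |g.e| = 1 by rcases int_sign he2 with e | e <;> rw [e] <;> rfl,
      one_mul, abs_of_pos (hdpos _)]
  rcases LinArith.moved_gen P hA4.1 hA4.2 h8 hD hineq (LinArith.eliminate hK0 heq hprin) with
    (hlt | hlt) | ⟨h9, -⟩
  · exact hspan p hvp0 (by rw [hdegp]; exact hlt) hn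
  · exact hspan _ (hψ0 i₀) (by rw [hdegψ]; exact hlt) hn
  · exact hnine h9 hn

end CfsgLib.GW.Eight.Ctx
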