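import Cfsg.Agent.GW.Eight.Linear.Values
import Cfsg.Agent.GW.Eight.Linear.Vectors
import Cfsg.Agent.GW.Eight.Linear.Arith

/-!
# Gorenstein–Walter, `|S| ≥ 8`, linear characters: what the evaluation starts from
-/

set_option autoImplicit false
set_option linter.style.haveILetI false
set_option linter.unusedSectionVars false
set_option maxHeartbeats 1000000

namespace CfsgLib.GW.Eight.Ctx

open Cfsg Finset CfsgLib.DihPrincipal CfsgLib.GW CfsgLib.Block CfsgLib.Block.Chr CfsgLib.Char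
open CfsgLib.Cyclic (unitVec)
open CfsgLib.GW.Eight.LinArith (Prin)
open CfsgLib.DGroup (odd_orderOf)
open scoped ComplexConjugate Classical

universe u

variable {G : Type u} [Group G] [Fintype G] [Fact (Nat.Prime 2)] (C : Ctx G)

/-- A small character which is a combination of linear characters on `z U`. -/
def SmallChar : Prop :=
  C.n = 3 ∧ ∃ χ : IrrCharacter G, charDegree (χ : G → ℂ) < 12 ∧ charDegree (χ : G → ℂ) ≠ 1 ∧
    ∃ f₀ f₁ f₂ : G → ℂ, IsLin C f₀ ∧ IsLin C f₁ ∧ IsLin C f₂ ∧ ∃ k₀ k₁ k₂ : ℂ, ∀ x ∈ C.U,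
      (χ : G → ℂ) (C.z * x) = k₀ * f₀ x + k₁ * f₁ x + k₂ * f₂ x

theorem int_sign {a : ℤ} (h : a * a = 1) : a = 1 ∨ a = -1 := mul_self_eq_one_iff.1 h

/-- The value of `1 / n` for a signed degree. -/
theorem signed_inv {a : ℤ} (ha : a * a = 1) {d : ℂ} : (a : ℂ) / d = 1 / ((a : ℂ) * d) := by
  rcases mul_self_eq_one_iff.1 ha with rfl | rfl
  · simp
  · push_cast; simp [div_eq_mul_inv]

omit [Fintype G] in
theorem sum_mul_unitVec {B : Type*} [Fintype B] (F : B → ℂ) (p : B) :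
    ∑ x, F x * ((unitVec p x : ℤ) : ℂ) = F p := by
  simp [unitVec]

variable [Fintype (IrrCharacter G)]

/-- The principal block member. -/
theorem exists_prin {lam : G → ℂ} {K a b : ℕ} (hK : K = C.H.index)
    (href : C.data.refl.card = 2 ^ (C.n - 2) * (a + b)) (hKo : Odd K) (ha : Odd a) (hb : Odd b) :
    ∃ x δ : ℤ, Prin ((2 : ℤ) ^ (C.n - 2)) x δ ∧
      (K : ℤ) * (x - δ) ^ 2 = 2 * ((2 : ℤ) ^ (C.n - 2)) ^ 2 * ((a : ℤ) + b) ^ 2 * (x * (x + δ)) ∧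
      (x = 9 → C.n = 3 → C.SmallChar) := by
  obtain ⟨M, hM⟩ := exists_isPModular Nat.prime_two
  haveI : M.IsPrime := hM.2.1.isPrime
  obtain ⟨ζ, hζ⟩ : ∃ ζ : ℂ, IsPrimitiveRoot ζ (2 ^ (C.n - 1)) :=
    ⟨_, Complex.isPrimitiveRoot_exp _ (by positivity)⟩
  obtain ⟨a₁, a₂, a₃, χ', δ₁, δ₂, δ₃, ⟨e1, -, -⟩, ⟨t1, -, -, -⟩, -, hB, hv, -, -, hd'0, K', hK', hE, -⟩ :=
    pair_equations C.data hM C.conj hζ
  set x := charDegree (a₁ : G → ℂ) with hxdef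
  have hx : (a₁ : G → ℂ) 1 = ((x : ℤ) : ℂ) := by rw [(irr_one a₁).1]; push_cast; rfl
  have hx0 : (0 : ℤ) < x := by exact_mod_cast (irr_one a₁).2
  have hKK : K' = (K : ℂ) := by
    refine mul_right_cancel₀ (b := (Nat.card C.H : ℂ)) (Nat.cast_ne_zero.2 Nat.card_pos.ne') ?_
    show K' * (Nat.card (Subgroup.centralizer ({C.s ^ 2 ^ (C.n - 2)} : Set G)) : ℂ) = _
    rw [hK', hK, ← Nat.cast_mul, C.H.index_mul_card]
  rw [hx] at hd'0 hE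
  have hxd : (x : ℤ) + δ₁ ≠ 0 := fun e => hd'0 (by rw [← Int.cast_add, e, Int.cast_zero])
  have hxd' : ((x : ℤ) : ℂ) + (δ₁ : ℂ) ≠ 0 := hd'0
  have hxc : ((x : ℤ) : ℂ) ≠ 0 := Int.cast_ne_zero.2 hx0.ne'
  have hδ2 : (δ₁ : ℂ) * δ₁ = 1 := by rcases e1 with rfl | rfl <;> push_cast <;> ring
  have hh2 : (1 : ℕ) ≤ C.n - 2 := by have := C.data.hn; omega
  have heq : (K : ℤ) * ((x : ℤ) - δ₁) ^ 2 =
      2 * ((2 : ℤ) ^ (C.n - 2)) ^ 2 * ((a : ℤ) + b) ^ 2 * ((x : ℤ) * ((x : ℤ) + δ₁)) := by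
    rw [href, hKK] at hE
    push_cast at hE hxc hxd'
    field_simp at hE
    have : ((K : ℂ)) * (((x : ℤ) : ℂ) - δ₁) ^ 2 = 2 * ((2 : ℂ) ^ (C.n - 2)) ^ 2 * ((a : ℂ) + b) ^ 2 *
        (((x : ℤ) : ℂ) * (((x : ℤ) : ℂ) + δ₁)) := by
      push_cast
      linear_combination -hE + (K : ℂ) * (1 - 0) * 0
    exact_mod_cast this
  refine ⟨x, δ₁, LinArith.prin hh2 hKo ha hb hx0 e1 hxd heq, heq, fun h9 hn => ?_⟩
  refine ⟨hn, a₁, by omega, by omega, fun _ => 1, fun _ => 1, fun _ => 1, C.isLin_one, C.isLin_one,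
    C.isLin_one, (δ₁ : ℂ), 0, 0, fun y hy => ?_⟩
  have hmem : a₁ ∈ principalBlock M G := by rw [hB]; exact Or.inr (Or.inl rfl)
  have hh : 0 < 2 ^ (C.n - 2) := Nat.two_pow_pos _
  have hz := (hv (2 ^ (C.n - 2)) hh (by rw [two_mul_pow C.data.hn]; omega)).1
  rw [show C.z * y = C.s ^ 2 ^ (C.n - 2) * y from rfl, z_conj_apply C.data hM hmem (IsConj.refl _)
    (C.mem_H.1 (C.U_le_H hy)).symm (odd_orderOf C.odd_U hy), hz]
  ring

/-- The degree. -/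
noncomputable def dg (χ : IrrCharacter G) : ℤ := (charDegree (χ : G → ℂ) : ℤ)

/-- The weight of a character in the count. -/
noncomputable def fz (χ : IrrCharacter G) : ℂ := (χ : G → ℂ) C.z ^ 2 / (dg χ : ℂ)

/-- What the evaluation starts from. -/
structure Eval (lam : G → ℂ) where
  h : ℕ
  K : ℕ
  a : ℕ
  b : ℕ
  x : ℤ
  δ : ℤ
  w : Fin (h - 1) → IrrCharacter G → ℤ
  u : IrrCharacter G → ℤ
  vz : IrrCharacter G → ℤ
  hvzdef : vz = fun χ => u χ + 2 * ∑ i : Fin (h - 1), (-1) ^ ((i : ℕ) + 1) * w i χ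
  hh : h = 2 ^ (C.n - 2)
  hh2 : 2 ≤ h
  hheven : Even h
  hKo : Odd K
  hao : Odd a
  hbo : Odd b
  hab1 : a < 4 * b
  hab2 : b < 4 * a
  P : LinArith.Prin (h : ℤ) x δ
  hprin : (K : ℤ) * (x - δ) ^ 2 = 2 * (h : ℤ) ^ 2 * ((a : ℤ) + b) ^ 2 * (x * (x + δ))
  hnine : x = 9 → C.n = 3 → C.SmallChar
  hn_of : x = 9 → δ = 1 → C.n = 3
  hS : 0 < 2 * (h : ℤ) ^ 2 * ((a : ℤ) + b) ^ 2
  hK0 : (K : ℤ) ≠ 0
  hVz : ∀ χ : IrrCharacter G, C.cV lam (χ : G → ℂ) C.z = (vz χ : ℂ)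
  hV0 : ∀ χ, vz χ ≠ 0 → C.cV lam (χ : G → ℂ) C.z ≠ 0
  hVs : C.n = 3 → ∀ χ : IrrCharacter G, C.cV lam (χ : G → ℂ) (C.s ^ 1) = ((-u χ : ℤ) : ℂ)
  hP2 : 8 * (h : ℂ) ^ 2 * a * b = (K : ℂ) * ∑ χ : IrrCharacter G,
      (χ : G → ℂ) C.z ^ 2 / (χ : G → ℂ) 1 * C.cV lam (χ : G → ℂ) C.s
  hdpos : ∀ χ : IrrCharacter G, 0 < dg χ
  hone : ∀ χ : IrrCharacter G, (χ : G → ℂ) 1 = (dg χ : ℂ)
  hsigned : ∀ χ, vz χ ≠ 0 → ∀ c : ℤ, c * c = 1 → c * dg χ ≠ 1 ∧ c * dg χ ≠ -1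
  hmain : ∀ c : ℂ, (∀ i : Fin (h - 1), Even (i : ℕ) → ∑ χ, C.fz χ * (w i χ : ℂ) = c) →
      2 * (h : ℂ) ^ 2 * ((a : ℂ) + b) ^ 2 = -((K : ℂ) * c)
  hcong : ∀ χ : IrrCharacter G, ∀ v : ℤ, (χ : G → ℂ) C.z = v → (4 : ℤ) ∣ dg χ + 3 * v
  hspan : ∀ χ, vz χ ≠ 0 → dg χ < 12 → C.n = 3 → C.SmallChar
  hunit : ∀ (p y : IrrCharacter G), unitVec p y = if y = p then 1 else 0
  hcardι : Fintype.card (Fin (h - 1)) = h - 1
  hsgn : ∑ i : Fin (h - 1), (-1 : ℤ) ^ ((i : ℕ) + 1) = -1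
  hshape : Nonempty (LinVec.Gen dg w u) ∨ Nonempty (LinVec.ExA dg w u) ∨ Nonempty (LinVec.ExB dg w u)

variable {C} {lam : G → ℂ}

/-- The evaluation can start. -/
theorem Twist.exists_eval (T : Twist C lam) (T₂ : Twist C.flip lam)
    (hT₂ : ∀ x ∈ C.U, T₂.nu x = lam x ∧ T₂.nu' x = lam x) (hne : ¬ ∀ x ∈ C.U, lam x = 1) :
    Nonempty (C.Eval lam) := by
  obtain ⟨ζ, hζ⟩ : ∃ ζ : ℂ, IsPrimitiveRoot ζ (2 ^ (C.n - 1)) :=
    ⟨_, Complex.isPrimitiveRoot_exp _ (by positivity)⟩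
  obtain ⟨K, a, b, hKo, hao, hbo, hab1, hab2, ⟨hKi, href⟩, hP1, hP2⟩ := C.pair_numbers T.lin T.inv
  obtain ⟨x, δ, P, hprin, hnine⟩ := C.exists_prin (lam := lam) hKi href hKo hao hbo
  obtain ⟨h, hh⟩ : ∃ h, h = 2 ^ (C.n - 2) := ⟨_, rfl⟩
  have hvec := C.exists_vec T.lin T.inv hζ
  rw [← hh] at hvec hP1 hP2
  obtain ⟨w, u, hww, huu, huw, hwd, hud, hval, hsum⟩ := hvec
  have hn3 := C.data.hn
  have hh2 : 2 ≤ h := hh ▸ C.four_le_pow
  have hheven : Even h := hh ▸ Nat.even_pow.2 ⟨even_two, by omega⟩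
  have hhZ : ((2 : ℤ) ^ (C.n - 2)) = (h : ℤ) := by rw [hh]; push_cast; rfl
  rw [hhZ] at P hprin
  have hK0 : (K : ℤ) ≠ 0 := by have := hKo.pos; omega
  have hn_of : x = 9 → δ = 1 → C.n = 3 := by
    rintro rfl rfl
    have h1 := Int.le_of_dvd (by norm_num) P.dvd
    by_contra hne'
    have : 2 ^ 2 ≤ h := hh ▸ Nat.pow_le_pow_right two_pos (by omega)
    omega
  have hS : 0 < 2 * (h : ℤ) ^ 2 * ((a : ℤ) + b) ^ 2 := by
    have := hao.pos; positivity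
  -- the values at `z`
  set vz : IrrCharacter G → ℤ := fun χ =>
    u χ + 2 * ∑ i : Fin (h - 1), (-1) ^ ((i : ℕ) + 1) * w i χ with hvzdef
  have hq : 2 ^ (C.n - 1) = 2 * h := hh ▸ two_mul_pow hn3
  have hpowh : ζ ^ h = -1 := by
    have h1 : ζ ^ h * ζ ^ h = 1 := by rw [← pow_add, ← two_mul, ← hq, hζ.pow_eq_one]
    exact (mul_self_eq_one_iff.1 h1).resolve_left (hζ.pow_ne_one_of_pos_of_lt (by omega) (by omega))
  have hVz : ∀ χ : IrrCharacter G, C.cV lam (χ : G → ℂ) C.z = (vz χ : ℂ) := fun χ => by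
    rw [show C.z = C.s ^ h by rw [hh]; rfl, hval χ h (by omega) (by omega), hheven.neg_one_pow, mul_one]
    simp only [hvzdef]
    push_cast
    rw [mul_sum]
    congr 1
    refine sum_congr rfl fun i _ => ?_
    rw [mul_comm ((i : ℕ) + 1) h, pow_mul, hpowh]
    rcases neg_one_pow_eq_or ℂ ((i : ℕ) + 1) with e | e <;> rw [e] <;> norm_num <;> ring
  have hV0 : ∀ χ, vz χ ≠ 0 → C.cV lam (χ : G → ℂ) C.z ≠ 0 := fun χ h' => by
    rw [hVz]; exact_mod_cast h'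
  have hdpos : ∀ χ : IrrCharacter G, 0 < dg χ := fun χ => by simp only [dg]; exact_mod_cast (irr_one χ).2
  have hone : ∀ χ : IrrCharacter G, (χ : G → ℂ) 1 = (dg χ : ℂ) := fun χ => by
    rw [(irr_one χ).1]; simp [dg]
  have hd1 : ∀ χ, vz χ ≠ 0 → dg χ ≠ 1 := fun χ h' e =>
    C.deg_ne_one T.lin hne χ (hV0 χ h') (by simp only [dg] at e; exact_mod_cast e)
  have hsigned : ∀ χ, vz χ ≠ 0 → ∀ c : ℤ, c * c = 1 → c * dg χ ≠ 1 ∧ c * dg χ ≠ -1 := by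
    intro χ h' c hc
    have := hd1 χ h'
    have := hdpos χ
    rcases int_sign hc with rfl | rfl <;> omega
  -- the total count through the vectors
  have hcnt : ∑ i : Fin (h - 1), (1 + (-1 : ℂ) ^ (i : ℕ)) = h := by
    rw [sum_add_distrib, sum_neg_one_pow (Nat.Even.sub_odd (by omega) hheven odd_one), sum_const,
      card_univ, Fintype.card_fin, nsmul_one, Nat.cast_sub (by omega : 1 ≤ h)]
    push_cast; ring
  have hmain : ∀ c : ℂ, (∀ i : Fin (h - 1), Even (i : ℕ) → ∑ χ, C.fz χ * (w i χ : ℂ) = c) →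
      2 * (h : ℂ) ^ 2 * (((a : ℂ) + b) ^ 2) = -((K : ℂ) * c) := by
    intro c hc
    have hterm : ∀ χ : IrrCharacter G, (χ : G → ℂ) C.z ^ 2 / (χ : G → ℂ) 1 *
        (C.cV lam (χ : G → ℂ) C.z + ∑ l ∈ range (2 ^ (C.n - 1) - 1),
          C.cV lam (χ : G → ℂ) (C.s ^ (l + 1))) =
        ∑ i : Fin (h - 1), -2 * (1 + (-1 : ℂ) ^ (i : ℕ)) * (C.fz χ * (w i χ : ℂ)) := by
      intro χ
      rw [hVz, hsum χ, hone]
      simp only [hvzdef]
      push_cast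
      rw [show ∀ p q r : ℂ, r + 2 * p + -(r + 2 * q) = 2 * (p - q) from fun p q r => by ring,
        ← sum_sub_distrib, mul_sum, mul_sum]
      refine sum_congr rfl fun i _ => ?_
      simp only [fz, pow_succ]
      ring
    rw [sum_congr rfl fun χ _ => hterm χ, sum_comm, sum_congr rfl fun (i : Fin (h - 1)) _ => show
      ∑ χ : IrrCharacter G, -2 * (1 + (-1 : ℂ) ^ (i : ℕ)) * (C.fz χ * (w i χ : ℂ)) =
        (1 + (-1 : ℂ) ^ (i : ℕ)) * (-2 * c) by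
        rw [← mul_sum]
        rcases Nat.even_or_odd (i : ℕ) with he | ho
        · rw [hc i he]; ring
        · rw [ho.neg_one_pow]; ring, ← sum_mul, hcnt] at hP1
    have hh0 : (h : ℂ) ≠ 0 := Nat.cast_ne_zero.2 (by omega)
    refine mul_left_cancel₀ (mul_ne_zero two_ne_zero hh0) ?_
    skip
    push_cast
    linear_combination hP1
  have hcong : ∀ χ : IrrCharacter G, ∀ v : ℤ, (χ : G → ℂ) C.z = v → (4 : ℤ) ∣ dg χ + 3 * v :=
    fun χ v hv => C.deg_cong χ hv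
  have hspan : ∀ χ, vz χ ≠ 0 → dg χ < 12 → C.n = 3 → C.SmallChar := fun χ h' hlt hn => by
    obtain ⟨k₀, k₁, k₂, hk⟩ := T.exists_span T₂ hT₂ χ (hV0 χ h')
    exact ⟨hn, χ, by simp only [dg] at hlt; exact_mod_cast hlt,
      C.deg_ne_one T.lin hne χ (hV0 χ h'), lam, T.nu, T.nu', T.lin, T.lin₁, T.lin₂, k₀, k₁, k₂, hk⟩
  have hunit : ∀ (p y : IrrCharacter G), unitVec p y = if y = p then 1 else 0 :=
    fun p y => by by_cases e : y = p <;> simp [unitVec, e]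
  have hcardι : Fintype.card (Fin (h - 1)) = h - 1 := Fintype.card_fin _
  have hI2 : Fintype.card (Fin (h - 1)) ≠ 2 ∧ Fintype.card (Fin (h - 1)) ≠ 4 := by
    rw [hcardι, hh]
    rcases (show C.n = 3 ∨ 4 ≤ C.n by omega) with e | e
    · rw [e]; norm_num
    · obtain ⟨j, hj⟩ : ∃ j, C.n - 2 = j + 2 := ⟨C.n - 4, by omega⟩
      rw [hj, pow_add]; omega
  let i₀ : Fin (h - 1) := ⟨0, by omega⟩
  have hsgn : ∑ i : Fin (h - 1), (-1 : ℤ) ^ ((i : ℕ) + 1) = -1 := by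
    have : ((∑ i : Fin (h - 1), (-1 : ℤ) ^ ((i : ℕ) + 1) : ℤ) : ℂ) = ((-1 : ℤ) : ℂ) := by
      push_cast
      simp only [pow_succ, mul_neg, mul_one, sum_neg_distrib]
      rw [sum_neg_one_pow (Nat.Even.sub_odd (by omega) hheven odd_one)]
    exact_mod_cast this
  have hVs : C.n = 3 → ∀ χ : IrrCharacter G, C.cV lam (χ : G → ℂ) (C.s ^ 1) = ((-u χ : ℤ) : ℂ) := by
    intro hn χ
    have hh2' : h = 2 := by rw [hh, hn]; rfl
    have hζ2 : ζ + ζ⁻¹ = 0 := by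
      have hz0 : ζ ≠ 0 := hζ.ne_zero (by positivity)
      rw [hh2'] at hpowh
      field_simp
      linear_combination hpowh
    rw [hval χ 1 one_pos (by omega), sum_eq_zero fun i _ => by
      rw [show (i : ℕ) = 0 by omega, zero_add, mul_one, pow_one, hζ2, mul_zero]]
    push_cast; ring
  exact ⟨⟨h, K, a, b, x, δ, w, u, vz, hvzdef, hh, hh2, hheven, hKo, hao, hbo, hab1, hab2, P, hprin,
    hnine, hn_of, hS, hK0, hVz, hV0, hVs, hP2, hdpos, hone, hsigned, hmain, hcong, hspan, hunit,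
    hcardι, hsgn, LinVec.exists_shape hdpos (by rw [hcardι]; omega) hI2.1 hI2.2
      (fun i j => by convert hww i j) huu huw hwd hud⟩⟩

end CfsgLib.GW.Eight.Ctx
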