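import Cfsg.Agent.GW.Eight.Linear.Evaluate.Data

/-!
# Gorenstein–Walter, `|S| ≥ 8`, linear characters: evaluation, generic vectors, both sides fixed

The principal block member has degree nine.
-/

set_option autoImplicit false
set_option linter.style.haveILetI false
set_option linter.unusedSectionVars false
set_option linter.unusedVariables false
set_option maxHeartbeats 1000000

namespace CfsgLib.GW.Eight.Ctx

open Cfsg Finset CfsgLib.DihPrincipal CfsgLib.GW CfsgLib.Block CfsgLib.Block.Chr CfsgLib.Char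
open CfsgLib.Cyclic (unitVec)
open scoped ComplexConjugate Classical

universe u

variable {G : Type u} [Group G] [Fintype G] [Fact (Nat.Prime 2)] [Fintype (IrrCharacter G)]
  {C : Ctx G} {lam : G → ℂ}

/-- **Generic vectors, both sides fixed.** -/
theorem Twist.eval_fixed (T : Twist C lam) (T₂ : Twist C.flip lam)
    (hT₂ : ∀ x ∈ C.U, T₂.nu x = lam x ∧ T₂.nu' x = lam x) (E : C.Eval lam)
    (g : LinVec.Gen dg E.w E.u) (hf : ∀ x ∈ C.U, T.nu x = lam x ∧ T.nu' x = lam x) : C.SmallChar := by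
  revert g
  obtain ⟨h, K, a, b, x, δ, w, u, vz, hvzdef, hh, hh2, hheven, hKo, hao, hbo, hab1, hab2, P, hprin, hnine, hn_of, hS, hK0, hVz, hV0, hVs, hP2, hdpos, hone, hsigned, hmain, hcong, hspan, hunit, hcardι, hsgn, -⟩ := E
  dsimp only
  intro g
  let i₀ : Fin (h - 1) := ⟨0, by omega⟩
  obtain ⟨hap, hbq, hf2, hg2, he2⟩ := g.sign
  obtain ⟨hpq, hpc, hpd, hqc, hqd, hcd⟩ := g.ne
  have hwp : ∀ i, w i g.p = g.a ∧ w i g.q = g.b ∧ w i g.c₀ = 0 ∧ w i g.d₀ = 0 := fun i => by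
    obtain ⟨a1, a2, a3, a4⟩ := g.ψ_ne i
    refine ⟨?_, ?_, ?_, ?_⟩ <;> rw [g.hw] <;>
      simp [hunit, hpq, hpq.symm, hpc.symm, hpd.symm, hqc.symm, hqd.symm, a1.symm, a2.symm,
        a3.symm, a4.symm]
  have hup : u g.p = g.a ∧ u g.q = g.b ∧ u g.c₀ = g.f ∧ u g.d₀ = g.g := by
    refine ⟨?_, ?_, ?_, ?_⟩ <;> rw [g.hu] <;>
      simp [hunit, hpq, hpq.symm, hpc, hpc.symm, hpd, hpd.symm, hqc, hqc.symm, hqd, hqd.symm, hcd,
        hcd.symm]
  have hvp : vz g.p = -g.a ∧ vz g.q = -g.b ∧ vz g.c₀ = g.f ∧ vz g.d₀ = g.g := by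
    simp only [hvzdef, fun i => (hwp i).1, fun i => (hwp i).2.1, fun i => (hwp i).2.2.1,
      fun i => (hwp i).2.2.2, ← sum_mul, hsgn, hup.1, hup.2.1, hup.2.2.1, hup.2.2.2]
    omega
  have hvψ : ∀ j, vz (g.ψ j) = 2 * (-1) ^ ((j : ℕ) + 1) * g.e := fun j => by
    obtain ⟨a1, a2, a3, a4⟩ := g.ψ_ne j
    simp only [hvzdef, g.hu, g.hw, hunit, if_neg a1, if_neg a2, if_neg a3, if_neg a4, mul_zero,
      add_zero, zero_add, g.ψ_inj.eq_iff, mul_ite, mul_one, sum_ite_eq, mem_univ, if_true]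
    ring
  have hne0 : vz g.p ≠ 0 ∧ vz g.q ≠ 0 := by
    rw [hvp.1, hvp.2.1]
    rcases int_sign hap with e | e <;> rcases int_sign hbq with e' | e' <;> rw [e, e'] <;> norm_num
  have hψ0 : ∀ j, vz (g.ψ j) ≠ 0 := fun j => by
    rw [hvψ]
    rcases neg_one_pow_eq_or ℤ ((j : ℕ) + 1) with e | e <;> rw [e] <;>
      rcases int_sign he2 with e' | e' <;> rw [e'] <;> norm_num
  have hFw : ∀ i, ∑ χ, C.fz χ * (w i χ : ℂ) =
      (g.a : ℂ) * C.fz g.p + (g.b : ℂ) * C.fz g.q + (g.e : ℂ) * C.fz (g.ψ i) := fun i => by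
    simp only [g.hw]
    push_cast
    simp only [mul_add, sum_add_distrib, mul_left_comm (C.fz _), ← mul_sum, sum_mul_unitVec]
  set A : ℤ := -(g.a * dg g.p) with hA
  set B : ℤ := -(g.b * dg g.q) with hB
  have hψdeg : ∀ i, g.e * dg (g.ψ i) = A + B := fun i => by
    have := g.degw i; simp only [hA, hB]; omega
  have hA0 : A ≠ 0 := by
    simp only [hA, neg_ne_zero]; exact mul_ne_zero (by rintro e; rw [e] at hap; simp at hap) (hdpos _).ne'
  have hB0 : B ≠ 0 := by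
    simp only [hB, neg_ne_zero]; exact mul_ne_zero (by rintro e; rw [e] at hbq; simp at hbq) (hdpos _).ne'
  have hAB0 : A + B ≠ 0 := by
    rw [← hψdeg i₀]; exact mul_ne_zero (by rintro e; rw [e] at he2; simp at he2) (hdpos _).ne'
  have hcA : (A : ℂ) ≠ 0 := Int.cast_ne_zero.2 hA0
  have hcB : (B : ℂ) ≠ 0 := Int.cast_ne_zero.2 hB0
  have hcAB : (A : ℂ) + B ≠ 0 := by exact_mod_cast hAB0
  have hinvp : (g.a : ℂ) / (dg g.p : ℂ) = -(1 / (A : ℂ)) := by
    rw [signed_inv hap, hA]; push_cast; rw [div_neg, neg_neg]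
  have hinvq : (g.b : ℂ) / (dg g.q : ℂ) = -(1 / (B : ℂ)) := by
    rw [signed_inv hbq, hB]; push_cast; rw [div_neg, neg_neg]
  have hinvψ : ∀ i, (g.e : ℂ) / (dg (g.ψ i) : ℂ) = 1 / ((A : ℂ) + B) := fun i => by
    rw [signed_inv he2]; congr 1; exact_mod_cast hψdeg i
  have hZ : ∀ χ, vz χ ≠ 0 → (χ : G → ℂ) C.z = (vz χ : ℂ) := fun χ h' => by
    rw [T.val_fixed T₂ hT₂ hf χ (hV0 χ h'), hVz]
  have hFp : C.fz g.p = 1 / (dg g.p : ℂ) := by
    simp only [fz, hZ _ hne0.1, hvp.1]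
    rcases int_sign hap with e | e <;> rw [e] <;> norm_num
  have hFq : C.fz g.q = 1 / (dg g.q : ℂ) := by
    simp only [fz, hZ _ hne0.2, hvp.2.1]
    rcases int_sign hbq with e | e <;> rw [e] <;> norm_num
  have hFψ : ∀ i, C.fz (g.ψ i) = 4 / (dg (g.ψ i) : ℂ) := fun i => by
    simp only [fz, hZ _ (hψ0 i), hvψ]
    rcases neg_one_pow_eq_or ℤ ((i : ℕ) + 1) with e | e <;> rw [e] <;>
      rcases int_sign he2 with e' | e' <;> rw [e'] <;> norm_num
  have hc := hmain (-(1 / (A : ℂ)) - 1 / (B : ℂ) + 4 * (1 / ((A : ℂ) + B))) fun i _ => by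
    rw [hFw, hFp, hFq, hFψ, ← hinvp, ← hinvψ i]
    linear_combination hinvq
  have heq : (K : ℤ) * (A - B) ^ 2 = 2 * (h : ℤ) ^ 2 * (((a : ℤ) + b) ^ 2) * (A * B * (A + B)) := by
    field_simp at hc
    have : ((K : ℂ)) * ((A : ℂ) - B) ^ 2 =
        2 * (h : ℂ) ^ 2 * (((a : ℂ) + b) ^ 2) * ((A : ℂ) * B * ((A : ℂ) + B)) := by
      linear_combination -hc
    exact_mod_cast this
  have hD : 0 < A * B * (A + B) := by
    rcases lt_trichotomy (A * B * (A + B)) 0 with hlt | h0 | hgt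
    · nlinarith [sq_nonneg (A - B), mul_nonneg (Int.natCast_nonneg K) (sq_nonneg (A - B))]
    · exact absurd h0 (mul_ne_zero (mul_ne_zero hA0 hB0) hAB0)
    · exact hgt
  have hA4 : A % 4 = 1 ∧ B % 4 = 1 := by
    have h1 := hcong g.p (-g.a) (by rw [hZ _ hne0.1, hvp.1])
    have h2 := hcong g.q (-g.b) (by rw [hZ _ hne0.2, hvp.2.1])
    simp only [hA, hB]
    rcases int_sign hap with e | e <;> rcases int_sign hbq with e' | e' <;>
      rw [e] at h1 ⊢ <;> rw [e'] at h2 ⊢ <;> omega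
  obtain ⟨h9, hδ⟩ := LinArith.fixed_gen P hA4.1 hA4.2
    (fun e => (hsigned _ hne0.1 g.a hap).2 (by omega)) (fun e => (hsigned _ hne0.2 g.b hbq).2 (by omega))
    (fun e => (hsigned _ hne0.1 g.a hap).1 (by omega)) (fun e => (hsigned _ hne0.2 g.b hbq).1 (by omega))
    hD (LinArith.eliminate hK0 heq hprin)
  exact hnine h9 (hn_of h9 hδ)

end CfsgLib.GW.Eight.Ctx
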